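import Groth.Prelude.Def_DerLim
import Mathlib.CategoryTheory.Limits.Preserves.Shapes.Products
import Mathlib.CategoryTheory.Preadditive.AdditiveFunctor
import Mathlib.CategoryTheory.Functor.OfSequence

/-! # Functors and `1 - shift` -/

set_option autoImplicit false
universe v u v' u'
open CategoryTheory CategoryTheory.Limits

namespace DerLimLib

variable {D : Type u} [Category.{v} D] [Preadditive D] {E : Type u'} [Category.{v'} E] [Preadditive E]
  (G : D ⥤ E) [G.Additive] (K : ℕ → D) (f : ∀ n, K n ⟶ K (n + 1)) [HasCoproduct K]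
  [HasCoproduct (fun n => G.obj (K n))] [PreservesColimit (Discrete.functor K) G]

theorem map_ι_iso_hom (n : ℕ) :
    G.map (Sigma.ι K n) ≫ (PreservesCoproduct.iso G K).hom = Sigma.ι (fun n => G.obj (K n)) n := by
  rw [← Iso.eq_comp_inv]
  simp

theorem map_one_sub_shift :
    G.map (𝟙 (∐ K) - DerLim.shiftMap K f) ≫ (PreservesCoproduct.iso G K).hom =
      (PreservesCoproduct.iso G K).hom ≫ (𝟙 _ - DerLim.shiftMap (fun n => G.obj (K n)) (fun n => G.map (f n))) := by
  rw [← cancel_epi (PreservesCoproduct.iso G K).inv, Iso.inv_hom_id_assoc]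
  refine Limits.Sigma.hom_ext _ _ fun n => ?_
  rw [show Sigma.ι (fun n => G.obj (K n)) n ≫ (PreservesCoproduct.iso G K).inv ≫ _ = G.map (Sigma.ι K n) ≫ _ from by
    rw [← map_ι_iso_hom G K n, Category.assoc, Iso.hom_inv_id_assoc]]
  rw [← Functor.map_comp_assoc, Preadditive.comp_sub, Category.comp_id, Functor.map_sub, Preadditive.sub_comp,
    Preadditive.comp_sub, Category.comp_id, map_ι_iso_hom]
  simp only [DerLim.shiftMap, Sigma.ι_desc, Functor.map_comp, Category.assoc, map_ι_iso_hom]

theorem map_desc {L : D} (i : ∀ n, K n ⟶ L) :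
    G.map (Sigma.desc i) = (PreservesCoproduct.iso G K).hom ≫ Sigma.desc (fun n => G.map (i n)) := by
  rw [← cancel_epi (PreservesCoproduct.iso G K).inv, Iso.inv_hom_id_assoc]
  refine Limits.Sigma.hom_ext _ _ fun n => ?_
  rw [← map_ι_iso_hom G K n, Category.assoc, Iso.hom_inv_id_assoc, ← Functor.map_comp, Sigma.ι_desc, map_ι_iso_hom,
    Sigma.ι_desc]

end DerLimLib
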